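import Cfsg.Agent.H150.FarOrthEven
import Cfsg.Agent.H732.SelfCent
import Cfsg.Agent.H477.HC.RowMinus

/-!
# Self-centralizing Sylow subgroups of some orthogonal groups of minus type (helper532, for S4899)

* `pow_full` : isometries commuting with an isometry of order `r`, `r` a primitive prime divisor of `q ^ (2 n) - 1`,
  `2 n` the dimension; `pow_partial` : codimension two, `q = 2`;
* `selfcent_om82`, `selfcent_om83`, `selfcent_om102` : `PΩ⁻_8(2)`, `r = 17`; `PΩ⁻_8(3)`, `r = 41`; `PΩ⁻_10(2)`, `r = 17`.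
-/

set_option autoImplicit false

namespace Cfsg.Agent.H532.Eight

open Module Cfsg Cfsg.Agent.H150
open Cfsg.Agent.LieClassical.OrthCount Cfsg.Agent.LieClassical.OmegaReindex
open Cfsg.Agent.H377

universe u

theorem selfcent_of_comm {G : Type*} [Group G] [Finite G] {r : ℕ} (hr : r.Prime) (h1 : r ∣ Nat.card G)
    (h2 : ¬ r ^ 2 ∣ Nat.card G) (h3 : ∀ x y : G, x ^ r = 1 → x ≠ 1 → x * y = y * x → y ^ r = 1) :
    ∃ R : Subgroup G, Nat.card R = r ∧ Subgroup.centralizer (R : Set G) = R := by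
  refine H732.SelfCent.selfcent_of_orders hr h1 h2 fun s hs hsd hsr g hg => ?_
  have h4 := h3 (g ^ s) g (by rw [← pow_mul, mul_comm s r, ← hg, pow_orderOf_eq_one]) (fun h => by
    have h5 := orderOf_dvd_of_pow_eq_one h
    rw [hg] at h5
    have h6 := Nat.le_of_dvd hs.pos h5
    have h7 := hr.two_le
    have h8 := hs.pos
    nlinarith) (by rw [← pow_succ, ← pow_succ'])
  have h5 := orderOf_dvd_of_pow_eq_one h4
  rw [hg] at h5
  have h6 := Nat.le_of_dvd hr.pos h5
  have h7 := hs.two_le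
  have h8 := hr.pos
  nlinarith

section gen

variable {F : Type*} [Field F] [Finite F] {ι : Type} [Fintype ι] [DecidableEq ι] (Q : QuadraticForm F (ι → F))
  (hQ : (QuadraticMap.polarBilin Q).Nondegenerate) {n : ℕ} (hdim : finrank F (ι → F) = 2 * n)
  {r : ℕ} (hr : r.Prime) (hrF : (r : F) ≠ 0)

include hQ hdim hr hrF

omit [DecidableEq ι] in
/-- `x` acts irreducibly -/
theorem pow_full (hn : 1 ≤ n) (hk : orderOf ((Nat.card F : ℕ) : ZMod r) = 2 * n) (hd : r ∣ Nat.card F ^ n + 1)
    (X Y : OG Q) (hX : X ^ r = 1) (hX1 : X ≠ 1) (hXY : X * Y = Y * X) :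
    Y ^ (Nat.card F ^ n + 1) = 1 ∧ (Y ^ 2 = 1 → Y = 1 ∨ ∀ v, (Y : (ι → F) ≃ₗ[F] (ι → F)) v = -v) := by
  have hnd : ND Q := fun u hu => hQ.1 u hu
  set x : (ι → F) →ₗ[F] (ι → F) := ((X : (ι → F) ≃ₗ[F] (ι → F)) : (ι → F) →ₗ[F] (ι → F)) with hxdef
  set y : (ι → F) →ₗ[F] (ι → F) := ((Y : (ι → F) ≃ₗ[F] (ι → F)) : (ι → F) →ₗ[F] (ι → F)) with hydef
  have hx : x ^ r = 1 := (og_pow_eq_one_iff X x (fun v => rfl) r).1 hX
  have hx1 : x ≠ 1 := by
    intro h1
    apply hX1
    rw [← pow_one X, og_pow_eq_one_iff X x (fun v => rfl), pow_one]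
    exact h1
  have hxy : ∀ v, x (y v) = y (x v) := fun v =>
    congrArg (fun Z : OG Q => (Z : (ι → F) ≃ₗ[F] (ι → F)) v) hXY
  have hxQ : ∀ v, Q (x v) = Q v := fun v => X.2 v
  have hyQ : ∀ v, Q (y v) = Q v := fun v => Y.2 v
  have hB : ∀ v w, QuadraticMap.polarBilin Q (x v) (x w) = QuadraticMap.polarBilin Q v w :=
    fun v w => H150.polar_isom Q x hxQ v w
  have hBy : ∀ v w, QuadraticMap.polarBilin Q (y v) (y w) = QuadraticMap.polarBilin Q v w :=
    fun v w => H150.polar_isom Q y hyQ v w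
  have hxM := (range_inv (x := x) (y := x) (fun v => rfl)).1
  have hkd := dvd_finrank_of_fpf_submodule hr x hx _ hxM (fpf_range hrF x hx)
  rw [hk] at hkd
  have hM := finrank_range_le_of_dvd hx1 hkd hdim (by omega)
  have hfpf := fpf_of_dim hrF x hx (by rw [hM, hdim])
  have hirr := irr_of_dvd hr x hx hfpf (by rw [hk, hdim])
  have hnt : Nontrivial (ι → F) := by
    apply Module.nontrivial_of_finrank_pos (R := F)
    rw [hdim]
    omega
  have hcomm : Commute x y := LinearMap.ext hxy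
  have hnd' : ∀ u, (∀ v, QuadraticMap.polarBilin Q v u = 0) → u = 0 := fun u hu => hnd u fun v => by
    have := hu v
    rwa [QuadraticMap.polarBilin_apply_apply, QuadraticMap.polar_comm] at this
  refine ⟨?_, fun h2 => ?_⟩
  · rw [og_pow_eq_one_iff Y y (fun v => rfl)]
    exact irr_pow (QuadraticMap.polarBilin Q) hnd' hr.pos x y hcomm hirr hx hB hBy hd
  · have h3 : y ^ 2 = 1 := (og_pow_eq_one_iff Y y (fun v => rfl) 2).1 h2
    rcases irr_eq_one_or_neg_one x y hcomm hirr h3 with h | h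
    · left
      rw [← pow_one Y, og_pow_eq_one_iff Y y (fun v => rfl), pow_one]
      exact h
    · right
      intro v
      exact LinearMap.congr_fun h v

omit hdim in
/-- `x` moves a subspace of codimension two, two elements -/
theorem pow_partial (hF : Nat.card F = 2) (hn : 4 ≤ n) (hι : Fintype.card ι = 2 * n)
    (hk : orderOf ((Nat.card F : ℕ) : ZMod r) = 2 * (n - 1)) (hd : r ∣ Nat.card F ^ (n - 1) + 1) (hr3 : 4 ≤ r)
    (hN : Nat.card {v : ι → F // Q v = 1} % r = 1)
    (X Y : OG Q) (hX : X ^ r = 1) (hX1 : X ≠ 1) (hXY : X * Y = Y * X) (hY : Y ∈ commutator (OG Q)) :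
    Y ^ (Nat.card F ^ (n - 1) + 1) = 1 := by
  classical
  have hdim : finrank F (ι → F) = 2 * n := by simp [hι]
  have hnd : ND Q := fun u hu => hQ.1 u hu
  set x : (ι → F) →ₗ[F] (ι → F) := ((X : (ι → F) ≃ₗ[F] (ι → F)) : (ι → F) →ₗ[F] (ι → F)) with hxdef
  set y : (ι → F) →ₗ[F] (ι → F) := ((Y : (ι → F) ≃ₗ[F] (ι → F)) : (ι → F) →ₗ[F] (ι → F)) with hydef
  have hx : x ^ r = 1 := (og_pow_eq_one_iff X x (fun v => rfl) r).1 hX
  have hx1 : x ≠ 1 := by
    intro h1
    apply hX1
    rw [← pow_one X, og_pow_eq_one_iff X x (fun v => rfl), pow_one]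
    exact h1
  have hxy : ∀ v, x (y v) = y (x v) := fun v =>
    congrArg (fun Z : OG Q => (Z : (ι → F) ≃ₗ[F] (ι → F)) v) hXY
  have hxQ : ∀ v, Q (x v) = Q v := fun v => X.2 v
  have hyQ : ∀ v, Q (y v) = Q v := fun v => Y.2 v
  have hB : ∀ v w, QuadraticMap.polarBilin Q (x v) (x w) = QuadraticMap.polarBilin Q v w :=
    fun v w => H150.polar_isom Q x hxQ v w
  have hBy : ∀ v w, QuadraticMap.polarBilin Q (y v) (y w) = QuadraticMap.polarBilin Q v w :=
    fun v w => H150.polar_isom Q y hyQ v w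
  have hcompl := isCompl_fix hrF x hx
  have hsum := Submodule.finrank_add_eq_of_isCompl hcompl
  have hxM := (range_inv (x := x) (y := x) (fun v => rfl)).1
  have hyM := (range_inv hxy).1
  have hkd := dvd_finrank_of_fpf_submodule hr x hx _ hxM (fpf_range hrF x hx)
  rw [hk] at hkd
  have hMdim := finrank_range_le_of_dvd hx1 hkd hdim (by omega)
  have hMnd := nondeg_range hrF (QuadraticMap.polarBilin Q) (fun u hu => hnd u hu) x hx hB
  -- `y ^ m = 1` on `M`
  set m := Nat.card F ^ (n - 1) + 1 with hm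
  have hcommR : Commute (x.restrict hxM) (y.restrict hyM) :=
    LinearMap.ext fun v => Subtype.ext (hxy v)
  have hxR : (x.restrict hxM) ^ r = 1 := restrict_pow_eq_one hxM hx
  have hfpf : ∀ v : LinearMap.range (x - 1), x.restrict hxM v = v → v = 0 := fun v hv =>
    Subtype.ext (fpf_range hrF x hx v v.2 (congrArg Subtype.val hv))
  have hirr := irr_of_dvd hr (x.restrict hxM) hxR hfpf (by rw [hk, hMdim])
  have hnt : Nontrivial (LinearMap.range (x - 1)) := by
    apply Module.nontrivial_of_finrank_pos (R := F)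
    rw [hMdim]
    omega
  have hyR : (y.restrict hyM) ^ m = 1 := by
    refine irr_pow (LinearMap.BilinForm.restrict (QuadraticMap.polarBilin Q) (LinearMap.range (x - 1)))
      (fun u hu => hMnd u fun v => ?_) hr.pos (x.restrict hxM) (y.restrict hyM) hcommR hirr hxR
      (fun v w => hB v w) (fun v w => hBy v w) hd
    have := hu v
    have h2 : QuadraticMap.polarBilin Q (v : ι → F) (u : ι → F) = 0 := this
    rwa [QuadraticMap.polarBilin_apply_apply, QuadraticMap.polar_comm] at h2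
  have hzM : ∀ v ∈ LinearMap.range (x - 1), (y ^ m) v = v := by
    intro v hv
    have h1 := LinearMap.congr_fun hyR ⟨v, hv⟩
    rw [Module.End.pow_restrict] at h1
    exact congrArg Subtype.val h1
  -- `Z = Y ^ m`
  have hZz : ∀ v, ((Y ^ m : OG Q) : (ι → F) ≃ₗ[F] (ι → F)) v = (y ^ m) v := fun v => og_pow_apply Y y (fun v => rfl) m v
  have hev := even_finrank_fix Q hQ (by omega) (by rw [hι]; exact even_two_mul n) (Y ^ m) (y ^ m) hZz
    (Subgroup.pow_mem _ hY m)
  have hMK : LinearMap.range (x - 1) ≤ LinearMap.ker (y ^ m - 1) := fun v hv => by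
    rw [LinearMap.mem_ker, LinearMap.sub_apply, Module.End.one_apply, hzM v hv, sub_self]
  have hKle := Submodule.finrank_le (LinearMap.ker (y ^ m - 1))
  have hMKle := Submodule.finrank_mono hMK
  have hKtop : LinearMap.ker (y ^ m - 1) = ⊤ := by
    apply Submodule.eq_top_of_finrank_eq
    by_contra hne
    have hKM : finrank F (LinearMap.ker (y ^ m - 1)) = 2 * (n - 1) := by
      obtain ⟨t, ht⟩ := hev
      omega
    have hKeq : LinearMap.range (x - 1) = LinearMap.ker (y ^ m - 1) :=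
      Submodule.eq_of_le_of_finrank_eq hMK (by rw [hMdim, hKM])
    -- the vectors of value one
    have h1 := prime_dvd_moved Q hr X hX
    set N := Nat.card {v : ι → F // Q v = 1 ∧ (X : (ι → F) ≃ₗ[F] (ι → F)) v = v} with hNdef
    have hN3 : N < 4 := by
      have hC : Nat.card (LinearMap.ker (x - 1)) = 4 := by
        rw [Module.natCard_eq_pow_finrank (K := F), hF, show finrank F (LinearMap.ker (x - 1)) = 2 by omega]
        norm_num
      rw [← hC]
      let f : {v : ι → F // Q v = 1 ∧ (X : (ι → F) ≃ₗ[F] (ι → F)) v = v} → {c : LinearMap.ker (x - 1) // c ≠ 0} :=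
        fun v => ⟨⟨v.1, by
          rw [LinearMap.mem_ker, LinearMap.sub_apply, Module.End.one_apply, sub_eq_zero]
          exact v.2.2⟩, fun h => by
            have h2 : v.1 = 0 := congrArg Subtype.val h
            have h3 := v.2.1
            rw [h2, map_zero] at h3
            exact zero_ne_one h3⟩
      have hf : Function.Injective f := fun a b hab => by
        apply Subtype.ext
        exact congrArg (fun c : {c : LinearMap.ker (x - 1) // c ≠ 0} => ((c : LinearMap.ker (x - 1)) : ι → F)) hab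
      refine (Nat.card_le_card_of_injective f hf).trans_lt ?_
      refine Finite.card_subtype_lt (x := (0 : LinearMap.ker (x - 1))) ?_
      simp
    have hN1 : N = 1 := by
      have h2 : N % r = 1 := by
        rw [← hN]
        exact h1.symm
      rwa [Nat.mod_eq_of_lt (by omega)] at h2
    obtain ⟨hsub, ⟨c⟩⟩ := Nat.card_eq_one_iff_unique.1 hN1
    have hxc : x c.1 = c.1 := c.2.2
    have hcommz : ∀ v, x ((y ^ m) v) = (y ^ m) (x v) := by
      intro v
      have h2 : Commute x (y ^ m) := (show Commute x y from LinearMap.ext hxy).pow_right m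
      exact LinearMap.congr_fun h2.eq v
    have hzc : Q ((y ^ m) c.1) = 1 ∧ (X : (ι → F) ≃ₗ[F] (ι → F)) ((y ^ m) c.1) = (y ^ m) c.1 := by
      constructor
      · rw [← hZz, (Y ^ m).2]
        exact c.2.1
      · show x ((y ^ m) c.1) = (y ^ m) c.1
        rw [hcommz, hxc]
    have h2 : (y ^ m) c.1 = c.1 := congrArg Subtype.val (hsub.elim ⟨_, hzc⟩ c)
    have h3 : c.1 ∈ LinearMap.range (x - 1) := by
      rw [hKeq, LinearMap.mem_ker, LinearMap.sub_apply, Module.End.one_apply, h2, sub_self]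
    have h4 := fpf_range hrF x hx c.1 h3 hxc
    have h5 := c.2.1
    rw [h4, map_zero] at h5
    exact zero_ne_one h5
  rw [og_pow_eq_one_iff Y y (fun v => rfl)]
  apply LinearMap.ext
  intro v
  have hv : v ∈ LinearMap.ker (y ^ m - 1) := by rw [hKtop]; trivial
  rwa [LinearMap.mem_ker, LinearMap.sub_apply, Module.End.one_apply, sub_eq_zero] at hv

end gen

/-- transfer from the isometry group -/
theorem selfcent_pomega {F : Type*} [Field F] [Finite F] {ι : Type} [Fintype ι] [DecidableEq ι]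
    (Q : QuadraticForm F (ι → F)) (hcen : ∀ z : Omega F (⇑Q), z ∈ Subgroup.center (Omega F (⇑Q)) → z = 1) {r : ℕ}
    (hr : r.Prime) (h1 : r ∣ Nat.card (POmega F (⇑Q))) (h2 : ¬ r ^ 2 ∣ Nat.card (POmega F (⇑Q)))
    (h3 : ∀ X Y : OG Q, X ^ r = 1 → X ≠ 1 → X * Y = Y * X → Y ∈ commutator (OG Q) → Y ^ r = 1) :
    ∃ R : Subgroup (POmega F (⇑Q)), Nat.card R = r ∧
      Subgroup.centralizer (R : Set (POmega F (⇑Q))) = R := by
  have hbot : Subgroup.center (Omega F (⇑Q)) = ⊥ := (Subgroup.eq_bot_iff_forall _).2 hcen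
  let e : POmega F (⇑Q) ≃* Omega F (⇑Q) :=
    (QuotientGroup.quotientMulEquivOfEq hbot).trans QuotientGroup.quotientBot
  rw [Nat.card_congr e.toEquiv] at h1 h2
  refine H732.SelfCent.selfcent_congr e.symm (selfcent_of_comm hr h1 h2 fun x y hx hx1 hxy => ?_)
  have key : ∀ (z : Omega F (⇑Q)) (j : ℕ), (isometryGroupEquiv Q z.1) ^ j = 1 ↔ z ^ j = 1 := by
    intro z j
    rw [← map_pow, MulEquiv.map_eq_one_iff, ← Subgroup.coe_pow, OneMemClass.coe_eq_one]
  have hY : isometryGroupEquiv Q y.1 ∈ commutator (OG Q) := (mem_commutator_congr (isometryGroupEquiv Q) y.1).2 y.2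
  refine (key y r).1 (h3 (isometryGroupEquiv Q x.1) (isometryGroupEquiv Q y.1) ((key x r).2 hx) (fun h => hx1 ?_) ?_ hY)
  · have := (key x 1).1 (by rw [pow_one]; exact h)
    rwa [pow_one] at this
  · rw [← map_mul, ← map_mul]
    exact congrArg (fun z : Omega F (⇑Q) => isometryGroupEquiv Q z.1) hxy

section rows

variable {F : Type} [Field F] [Fintype F]

/-- the centre in characteristic two -/
theorem center_two (hF : Fintype.card F = 2) {m : ℕ} (hm : 1 ≤ m) (a b : F)
    (hab : ∀ z₁ z₂ : F, z₁ ^ 2 + a * z₁ * z₂ + b * z₂ ^ 2 = 0 → z₁ = 0 ∧ z₂ = 0)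
    (z : Omega F (quadFormMinus m F a b)) (hz : z ∈ Subgroup.center (Omega F (quadFormMinus m F a b))) : z = 1 := by
  have h2 : (2 : F) = 0 := by
    have h := Nat.cast_card_eq_zero F
    rw [hF] at h
    exact_mod_cast h
  have hneg : (-1 : Matrix ((Fin m ⊕ Fin m) ⊕ Fin 2) ((Fin m ⊕ Fin m) ⊕ Fin 2) F) = 1 := by
    rw [neg_eq_iff_add_eq_zero, ← two_mul, ← Matrix.ext_iff]
    intro i j
    simp [Matrix.ofNat_apply, h2]
  have h := H477.HC.cen_minus F hm a b hab z hz
  rw [hneg, or_self] at h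
  apply Subtype.ext
  apply Subtype.ext
  apply Units.ext
  exact h

/-- the centre of `Ω⁻_8(3)` -/
theorem center_three (hF : Fintype.card F = 3) (a b : F)
    (hab : ∀ z₁ z₂ : F, z₁ ^ 2 + a * z₁ * z₂ + b * z₂ ^ 2 = 0 → z₁ = 0 ∧ z₂ = 0)
    (z : Omega F (quadFormMinus 3 F a b)) (hz : z ∈ Subgroup.center (Omega F (quadFormMinus 3 F a b))) : z = 1 := by
  have hq3 : Nat.card F = 3 := by rw [Nat.card_eq_fintype_card, hF]
  have : Fact (Nat.Prime 3) := ⟨Nat.prime_three⟩
  have : CharP F 3 := charP_of_card_eq_prime hF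
  have ho : Odd (Nat.card F) := by rw [hq3]; decide
  have hidx := H477.HC.minus_idx_four F (p := 3) ho a b hab 3
  have hmul := H477.HC.minus_idx_mul F a b hab (l := 3) le_rfl
  have hg : Nat.gcd 4 (Nat.card F ^ (3 + 1) + 1) = 2 := by rw [hq3]; decide
  rw [hidx, hg] at hmul
  have hc1 : Nat.card (Subgroup.center (Omega F (quadFormMinus 3 F a b))) = 1 := by omega
  rw [Subgroup.eq_bot_of_card_eq _ hc1] at hz
  exact Subgroup.mem_bot.1 hz

/-! ### orders -/

theorem card_om82 (hF : Fintype.card F = 2) (a b : F)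
    (hab : ∀ z₁ z₂ : F, z₁ ^ 2 + a * z₁ * z₂ + b * z₂ ^ 2 = 0 → z₁ = 0 ∧ z₂ = 0) :
    Nat.card (POmega F (quadFormMinus 3 F a b)) = 197406720 := by
  have h := Cfsg.Agent.S0294.result (F := F) hF 4 le_rfl a b hab
  simp only [Finset.prod_range_succ, Finset.prod_range_zero] at h
  norm_num at h
  exact h

theorem card_om83 (hF : Fintype.card F = 3) (a b : F)
    (hab : ∀ z₁ z₂ : F, z₁ ^ 2 + a * z₁ * z₂ + b * z₂ ^ 2 = 0 → z₁ = 0 ∧ z₂ = 0) :
    Nat.card (POmega F (quadFormMinus 3 F a b)) = 10151968619520 := by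
  have h := Cfsg.Agent.S0294.result (F := F) hF 4 le_rfl a b hab
  simp only [Finset.prod_range_succ, Finset.prod_range_zero] at h
  norm_num at h
  have h' : 2 * Nat.card (POmega F (quadFormMinus 3 F a b)) = 20303937239040 := h
  omega

theorem card_om102 (hF : Fintype.card F = 2) (a b : F)
    (hab : ∀ z₁ z₂ : F, z₁ ^ 2 + a * z₁ * z₂ + b * z₂ ^ 2 = 0 → z₁ = 0 ∧ z₂ = 0) :
    Nat.card (POmega F (quadFormMinus 4 F a b)) = 25015379558400 := by
  have h := Cfsg.Agent.S0294.result (F := F) hF 5 (by norm_num) a b hab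
  simp only [Finset.prod_range_succ, Finset.prod_range_zero] at h
  norm_num at h
  exact h

/-! ### self-centralizing Sylow subgroups -/

theorem selfcent_om82 (hF : Fintype.card F = 2) (a b : F)
    (hab : ∀ z₁ z₂ : F, z₁ ^ 2 + a * z₁ * z₂ + b * z₂ ^ 2 = 0 → z₁ = 0 ∧ z₂ = 0) :
    ∃ R : Subgroup (POmega F (quadFormMinus 3 F a b)), Nat.card R = 17 ∧
      Subgroup.centralizer (R : Set (POmega F (quadFormMinus 3 F a b))) = R := by
  have hqe : Nat.card F = 2 := by rw [Nat.card_eq_fintype_card, hF]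
  have hcard := card_om82 hF a b hab
  have hcen := center_two hF (m := 3) (by norm_num) a b hab
  have hdim : finrank F ((Fin 3 ⊕ Fin 3) ⊕ Fin 2 → F) = 2 * 4 := by simp
  have hnd := quadMinus_nondegenerate (m := 3) (F := F) hab
  rw [← coe_quadMinus] at hcard hcen ⊢
  refine selfcent_pomega (quadMinus 3 F a b) hcen (by norm_num) (by rw [hcard]; norm_num) (by rw [hcard]; norm_num)
    fun X Y hX hX1 hXY _ => ?_
  have hrF : ((17 : ℕ) : F) ≠ 0 := natCast_ne_zero_of_not_dvd (by norm_num) (by rw [hqe]; norm_num)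
  have h := (pow_full (quadMinus 3 F a b) hnd hdim (r := 17) (by norm_num) hrF (by norm_num)
    (by rw [hqe]; exact H732.SelfCent.ord_eq (by norm_num) (by decide) (by decide)) (by rw [hqe]; norm_num)
    X Y hX hX1 hXY).1
  rw [hqe] at h
  exact h

theorem selfcent_om83 (hF : Fintype.card F = 3) (a b : F)
    (hab : ∀ z₁ z₂ : F, z₁ ^ 2 + a * z₁ * z₂ + b * z₂ ^ 2 = 0 → z₁ = 0 ∧ z₂ = 0) :
    ∃ R : Subgroup (POmega F (quadFormMinus 3 F a b)), Nat.card R = 41 ∧
      Subgroup.centralizer (R : Set (POmega F (quadFormMinus 3 F a b))) = R := by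
  have hqe : Nat.card F = 3 := by rw [Nat.card_eq_fintype_card, hF]
  have hcard := card_om83 hF a b hab
  have hcen := center_three hF a b hab
  have hdim : finrank F ((Fin 3 ⊕ Fin 3) ⊕ Fin 2 → F) = 2 * 4 := by simp
  have hnd := quadMinus_nondegenerate (m := 3) (F := F) hab
  have h2 : (2 : F) ≠ 0 := by
    have := natCast_ne_zero_of_not_dvd (F := F) (r := 2) (by norm_num) (by rw [hqe]; norm_num)
    exact_mod_cast this
  rw [← coe_quadMinus] at hcard hcen ⊢
  refine selfcent_pomega (quadMinus 3 F a b) hcen (by norm_num) (by rw [hcard]; norm_num) (by rw [hcard]; norm_num)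
    fun X Y hX hX1 hXY hYc => ?_
  have hrF : ((41 : ℕ) : F) ≠ 0 := natCast_ne_zero_of_not_dvd (by norm_num) (by rw [hqe]; norm_num)
  have hord : orderOf ((Nat.card F : ℕ) : ZMod 41) = 2 * 4 := by
    rw [hqe]; exact H732.SelfCent.ord_eq (by norm_num) (by decide) (by decide)
  have h := (pow_full (quadMinus 3 F a b) hnd hdim (r := 41) (by norm_num) hrF (by norm_num) hord
    (by rw [hqe]; norm_num) X Y hX hX1 hXY).1
  rw [hqe] at h
  have h' := (pow_full (quadMinus 3 F a b) hnd hdim (r := 41) (by norm_num) hrF (by norm_num) hord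
    (by rw [hqe]; norm_num) X (Y ^ 41) hX hX1 (by
      have hc : Commute X Y := hXY
      exact (hc.pow_right 41).eq)).2
  rcases h' (by rw [← pow_mul]; exact h) with h3 | h3
  · exact h3
  · exfalso
    -- `-1` lies in the centre
    set Z := Y ^ 41 with hZ
    have hZc : Z ∈ commutator (OG (quadMinus 3 F a b)) := Subgroup.pow_mem _ hYc 41
    let T := (isometryGroupEquiv (quadMinus 3 F a b)).symm Z
    have hT : isometryGroupEquiv (quadMinus 3 F a b) T = Z := MulEquiv.apply_symm_apply _ _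
    have hTc : T ∈ Omega F (⇑(quadMinus 3 F a b)) := by
      have h4 := (mem_commutator_congr (isometryGroupEquiv (quadMinus 3 F a b)) T).1 (by rw [hT]; exact hZc)
      exact h4
    have h4 := hcen ⟨T, hTc⟩ (by
      rw [Subgroup.mem_center_iff]
      intro g
      apply Subtype.ext
      show g.1 * T = T * g.1
      apply (isometryGroupEquiv (quadMinus 3 F a b)).injective
      rw [map_mul, map_mul, hT]
      apply Subtype.ext
      apply LinearEquiv.ext
      intro v
      show (isometryGroupEquiv (quadMinus 3 F a b) g.1).1 (Z.1 v) = Z.1 ((isometryGroupEquiv (quadMinus 3 F a b) g.1).1 v)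
      rw [h3, h3, map_neg])
    have h5 : T = 1 := congrArg Subtype.val h4
    rw [h5, map_one] at hT
    have h6 := h3 (fun _ => 1)
    rw [← hT] at h6
    have h7 := congrFun h6 (Sum.inr 0)
    have h8 : (1 : F) = -1 := h7
    apply h2
    linear_combination h8

theorem selfcent_om102 (hF : Fintype.card F = 2) (a b : F)
    (hab : ∀ z₁ z₂ : F, z₁ ^ 2 + a * z₁ * z₂ + b * z₂ ^ 2 = 0 → z₁ = 0 ∧ z₂ = 0) :
    ∃ R : Subgroup (POmega F (quadFormMinus 4 F a b)), Nat.card R = 17 ∧
      Subgroup.centralizer (R : Set (POmega F (quadFormMinus 4 F a b))) = R := by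
  have hqe : Nat.card F = 2 := by rw [Nat.card_eq_fintype_card, hF]
  have hcard := card_om102 hF a b hab
  have hcen := center_two hF (m := 4) (by norm_num) a b hab
  have hdim : finrank F ((Fin 4 ⊕ Fin 4) ⊕ Fin 2 → F) = 2 * 5 := by simp
  have hnd := quadMinus_nondegenerate (m := 4) (F := F) hab
  have hsign : HasSign (⇑(quadMinus 4 F a b)) 5 (-1) := by
    rw [coe_quadMinus]
    exact hasSign_quadFormMinus 4 (a := a) (b := b) hab
  have hN : Nat.card {v : (Fin 4 ⊕ Fin 4) ⊕ Fin 2 → F // quadMinus 4 F a b v = 1} = 528 := by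
    have h := card_of_hasSign' hdim hsign (one_ne_zero (α := F))
    rw [hqe] at h
    push_cast at h
    omega
  rw [← coe_quadMinus] at hcard hcen ⊢
  refine selfcent_pomega (quadMinus 4 F a b) hcen (by norm_num) (by rw [hcard]; norm_num) (by rw [hcard]; norm_num)
    fun X Y hX hX1 hXY hYc => ?_
  have hrF : ((17 : ℕ) : F) ≠ 0 := natCast_ne_zero_of_not_dvd (by norm_num) (by rw [hqe]; norm_num)
  have h := pow_partial (quadMinus 4 F a b) hnd (n := 5) (r := 17) (by norm_num) hrF hqe (by norm_num) (by simp)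
    (by rw [hqe]; exact H732.SelfCent.ord_eq (by norm_num) (by decide) (by decide)) (by rw [hqe]; norm_num)
    (by norm_num) (by rw [hN]) X Y hX hX1 hXY hYc
  rw [hqe] at h
  exact h

end rows

end Cfsg.Agent.H532.Eight
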