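import Cfsg.Agent.H532.Eight.Tools

/-!
# At least eight character degrees: `PΩ⁻_10(2)` (helper532, for S4899)
-/

set_option autoImplicit false

namespace Cfsg.Agent.H532.Eight

open Module Cfsg Subgroup
open Cfsg.Agent.Characters.Core
open Cfsg.Agent.SmallSimple.LocalData Cfsg.Agent.SmallSimple.DegreeData Cfsg.Agent.H424.BlockTools
  Cfsg.Agent.H424.BlockTools2

/-- lists with at most three different entries -/
theorem list_comb {u v x : ℤ} (huv : u ≠ v) (hux : x ≠ u) (hvx : x ≠ v) (l : List ℤ)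
    (h : ∀ z ∈ l, z = u ∨ z = v ∨ z = x) :
    ∃ a b c : ℕ, a + b + c = l.length ∧ l.sum = a * u + b * v + c * x ∧
      (l.map (· ^ 2)).sum = a * u ^ 2 + b * v ^ 2 + c * x ^ 2 ∧ (u ∈ l → 1 ≤ a) ∧ (v ∈ l → 1 ≤ b) ∧ (x ∈ l → 1 ≤ c) ∧
      (x ∉ l → c = 0) := by
  induction l with
  | nil => exact ⟨0, 0, 0, by simp⟩
  | cons y l ih =>
    obtain ⟨a, b, c, h1, h2, h3, h4, h5, h6, h6'⟩ := ih fun z hz => h z (List.mem_cons_of_mem _ hz)
    rcases h y List.mem_cons_self with hy | hy | hy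
    · refine ⟨a + 1, b, c, ?_, ?_, ?_, fun _ => by omega, fun h7 => ?_, fun h7 => ?_,
        fun h7 => h6' fun h8 => h7 (List.mem_cons_of_mem _ h8)⟩
      · rw [List.length_cons]; omega
      · rw [List.sum_cons, h2, hy]; push_cast; ring
      · rw [List.map_cons, List.sum_cons, h3, hy]; push_cast; ring
      · rcases List.mem_cons.1 h7 with h8 | h8
        · exact absurd (hy.symm.trans h8.symm) huv
        · exact h5 h8
      · rcases List.mem_cons.1 h7 with h8 | h8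
        · exact absurd (h8.trans hy) hux
        · exact h6 h8
    · refine ⟨a, b + 1, c, ?_, ?_, ?_, fun h7 => ?_, fun _ => by omega, fun h7 => ?_,
        fun h7 => h6' fun h8 => h7 (List.mem_cons_of_mem _ h8)⟩
      · rw [List.length_cons]; omega
      · rw [List.sum_cons, h2, hy]; push_cast; ring
      · rw [List.map_cons, List.sum_cons, h3, hy]; push_cast; ring
      · rcases List.mem_cons.1 h7 with h8 | h8
        · exact absurd (h8.trans hy) huv
        · exact h4 h8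
      · rcases List.mem_cons.1 h7 with h8 | h8
        · exact absurd (h8.trans hy) hvx
        · exact h6 h8
    · refine ⟨a, b, c + 1, ?_, ?_, ?_, fun h7 => ?_, fun h7 => ?_, fun _ => by omega,
        fun h7 => absurd (by rw [hy]; exact List.mem_cons_self) h7⟩
      · rw [List.length_cons]; omega
      · rw [List.sum_cons, h2, hy]; push_cast; ring
      · rw [List.map_cons, List.sum_cons, h3, hy]; push_cast; ring
      · rcases List.mem_cons.1 h7 with h8 | h8
        · exact absurd (h8.trans hy).symm hux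
        · exact h4 h8
      · rcases List.mem_cons.1 h7 with h8 | h8
        · exact absurd (h8.trans hy).symm hvx
        · exact h5 h8

/-- the Harish-Chandra induced character of `PΩ⁻_10(2)` -/
theorem om102_hc {F : Type} [Field F] [Fintype F] (hF : Fintype.card F = 2) (a b : F)
    (hab : ∀ z₁ z₂ : F, z₁ ^ 2 + a * z₁ * z₂ + b * z₂ ^ 2 = 0 → z₁ = 0 ∧ z₂ = 0) :
    ∃ e ∈ charDegrees (POmega F (quadFormMinus 4 F a b)), 58905 ∣ e := by
  have hp2 : Fact (Nat.Prime 2) := ⟨Nat.prime_two⟩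
  have hchar : CharP F 2 := charP_of_card_eq_prime hF
  have hq : Nat.card F = 2 := by rw [Nat.card_eq_fintype_card, hF]
  obtain ⟨e, he, he1, -⟩ := top_deg (p := 2) a b hab (l := 4) (by norm_num)
  rw [hq] at he1
  have e17 : 17 ^ 1 ∣ e := he1 17 1 (by norm_num) (by norm_num) (by norm_num) (by decide)
  have e11 : 11 ^ 1 ∣ e := he1 11 1 (by norm_num) (by norm_num) (by norm_num) (by decide)
  have e7 : 7 ^ 1 ∣ e := he1 7 1 (by norm_num) (by norm_num) (by norm_num) (by decide)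
  have e5 : 5 ^ 1 ∣ e := he1 5 1 (by norm_num) (by norm_num) (by norm_num) (by decide)
  have e9 : 3 ^ 2 ∣ e := he1 3 2 (by norm_num) (by norm_num) (by norm_num) (by decide)
  refine ⟨e, he, ?_⟩
  have h1 : 17 ^ 1 * 11 ^ 1 * 7 ^ 1 * 5 ^ 1 * 3 ^ 2 ∣ e :=
    Nat.Coprime.mul_dvd_of_dvd_of_dvd (by norm_num) (Nat.Coprime.mul_dvd_of_dvd_of_dvd (by norm_num)
      (Nat.Coprime.mul_dvd_of_dvd_of_dvd (by norm_num) (Nat.Coprime.mul_dvd_of_dvd_of_dvd (by norm_num) e17 e11) e7)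
      e5) e9
  norm_num at h1
  exact h1

theorem om102_st {F : Type} [Field F] [Fintype F] (hF : Fintype.card F = 2) (a b : F)
    (hab : ∀ z₁ z₂ : F, z₁ ^ 2 + a * z₁ * z₂ + b * z₂ ^ 2 = 0 → z₁ = 0 ∧ z₂ = 0) :
    1048576 ∈ charDegrees (POmega F (quadFormMinus 4 F a b)) := by
  have hp2 : Fact (Nat.Prime 2) := ⟨Nat.prime_two⟩
  have hchar : CharP F 2 := charP_of_card_eq_prime hF
  have hs : IsSimpleGroup (POmega F (quadFormMinus 4 F a b)) := S0297.result (F := F) 5 (by norm_num) a b hab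
  have hcard := card_om102 hF a b hab
  have hlie : IsLieTypeChar 2 (POmega F (quadFormMinus 4 F a b)) :=
    Or.inr (Or.inr (Or.inr (Or.inr (Or.inr (Or.inl ⟨F, inferInstance, inferInstance, hchar, 5, a, b, by norm_num, hab,
      ⟨MulEquiv.refl _⟩⟩)))))
  have := st_deg Nat.prime_two hlie hcard (k := 20) (m := 23856525) (by norm_num) (by norm_num)
  norm_num at this
  exact this

theorem om102_rk {F : Type} [Field F] [Fintype F] (hF : Fintype.card F = 2) (a b : F)
    (hab : ∀ z₁ z₂ : F, z₁ ^ 2 + a * z₁ * z₂ + b * z₂ ^ 2 = 0 → z₁ = 0 ∧ z₂ = 0) :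
    340 ∈ charDegrees (POmega F (quadFormMinus 4 F a b)) ∧ 154 ∈ charDegrees (POmega F (quadFormMinus 4 F a b)) := by
  have hq : Nat.card F = 2 := by rw [Nat.card_eq_fintype_card, hF]
  obtain ⟨s, t, hs1, ht1, hs2, ht2⟩ := H477.HC.rk3_minus F a b hab (l := 4) (by norm_num)
  rw [hq] at hs2 ht2
  norm_num at hs2 ht2
  constructor
  · have : s = 340 := by omega
    rw [← this]
    exact Ch_mem hs1
  · have : t = 154 := by omega
    rw [← this]
    exact Ch_mem ht1

/-- one further value -/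
def T (z : ℤ) : Bool :=
  (List.range 7).any fun k => (List.range 7).any fun m => decide (1 ≤ k ∧ 1 ≤ m ∧ k + m ≤ 6 ∧ z ≠ 154 ∧ z ≠ -1048576 ∧
    3 ≤ z.natAbs ∧
    (1 + ((k : ℤ) * 154 + (m : ℤ) * (-1048576) + ((7 - k - m : ℕ) : ℤ) * z)).natAbs ∣ 25015379558400 ∧
    1 + ((k : ℤ) * 154 ^ 2 + (m : ℤ) * (-1048576) ^ 2 + ((7 - k - m : ℕ) : ℤ) * z ^ 2) +
      2 * (1 + ((k : ℤ) * 154 + (m : ℤ) * (-1048576) + ((7 - k - m : ℕ) : ℤ) * z)) ^ 2 ≤ 25015379558400)

theorem om102_uniq {x : ℤ} {k m n : ℕ} (hkmn : k + m + n = 7) (hk : 1 ≤ k) (hm : 1 ≤ m) (hn : 1 ≤ n)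
    (hx1 : x ≡ 1 [ZMOD 17]) (hx2 : x.natAbs ∣ 25015379558400) (h3 : 3 ≤ x.natAbs)
    (hE : (1 + ((k : ℤ) * 154 + (m : ℤ) * (-1048576) + (n : ℤ) * x)).natAbs ∣ 25015379558400)
    (hsq : 1 + ((k : ℤ) * 154 ^ 2 + (m : ℤ) * (-1048576) ^ 2 + (n : ℤ) * x ^ 2) +
      2 * (1 + ((k : ℤ) * 154 + (m : ℤ) * (-1048576) + (n : ℤ) * x)) ^ 2 ≤ 25015379558400)
    (hx154 : x ≠ 154) (hxst : x ≠ -1048576) : x = -56133 := by
  have hx5 : x ∈ ([-56133] : List ℤ) := by
    refine SmallSimple.DegreeSearch.mem_of_all (p := 17) (r := 1) (by norm_num)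
      (L := [(2, 20), (3, 6), (5, 2), (7, 1), (11, 1), (17, 1)]) (by norm_num)
      (F := T) (C := [-56133]) (by decide +kernel) hx1 (by norm_num; exact hx2) ?_
    unfold T
    rw [List.any_eq_true]
    refine ⟨k, List.mem_range.2 (by omega), ?_⟩
    rw [List.any_eq_true]
    refine ⟨m, List.mem_range.2 (by omega), ?_⟩
    rw [decide_eq_true_eq]
    have hn' : 7 - k - m = n := by omega
    rw [hn']
    exact ⟨hk, hm, by omega, hx154, hxst, h3, hE, hsq⟩
  simpa using hx5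

theorem nodup_a {E e d : ℕ} (hE1 : E % 17 = 8 ∨ E % 17 = 9) (hE2 : 52360 < E) (he1 : 17 ∣ e) (he2 : 52360 < e)
    (hd1 : 340 < d) (hd2 : d ≤ 52360) : [1, 154, 340, 1048576, 56133, E, e, d].Nodup := by
  simp only [List.nodup_cons, List.mem_cons, List.not_mem_nil, or_false, not_or, List.nodup_nil, and_true]
  refine ⟨⟨?_, ?_, ?_, ?_, ?_, ?_, ?_⟩, ⟨?_, ?_, ?_, ?_, ?_, ?_⟩, ⟨?_, ?_, ?_, ?_, ?_⟩, ⟨?_, ?_, ?_, ?_⟩,
    ⟨?_, ?_, ?_⟩, ⟨?_, ?_⟩, ?_, not_false⟩ <;> omega

theorem nodup_b {x y E e : ℕ} (hx : x % 17 = 1 ∨ x % 17 = 16) (hy : y % 17 = 1 ∨ y % 17 = 16)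
    (hE : E % 17 = 8 ∨ E % 17 = 9) (he : 17 ∣ e) (he2 : 52360 < e) (hx1 : x ≠ 1) (hx2 : x ≠ 154) (hx3 : x ≠ 1048576)
    (hy1 : y ≠ 1) (hy2 : y ≠ 154) (hy3 : y ≠ 1048576) (hxy : x ≠ y) :
    [1, 154, 340, 1048576, x, y, E, e].Nodup := by
  simp only [List.nodup_cons, List.mem_cons, List.not_mem_nil, or_false, not_or, List.nodup_nil, and_true]
  refine ⟨⟨?_, ?_, ?_, ?_, ?_, ?_, ?_⟩, ⟨?_, ?_, ?_, ?_, ?_, ?_⟩, ⟨?_, ?_, ?_, ?_, ?_⟩, ⟨?_, ?_, ?_, ?_⟩,
    ⟨?_, ?_, ?_⟩, ⟨?_, ?_⟩, ?_, not_false⟩ <;> omega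

theorem natAbs_mod_eight {z : ℤ} (h : z % 17 = 8) : z.natAbs % 17 = 8 ∨ z.natAbs % 17 = 9 := by omega

theorem natAbs_mod_one {z : ℤ} (h : z % 17 = 1) : z.natAbs % 17 = 1 ∨ z.natAbs % 17 = 16 := by omega

theorem natAbs_ne {z w : ℤ} (h : z % 17 = 1) (hw : w % 17 = 1) (hne : z ≠ w) : z.natAbs ≠ w.natAbs := by omega

/-- `PΩ⁻_10(2)` has at least eight character degrees. -/
theorem eight_om102 {F : Type} [Field F] [Fintype F] (hF : Fintype.card F = 2) (a b : F)
    (hab : ∀ z₁ z₂ : F, z₁ ^ 2 + a * z₁ * z₂ + b * z₂ ^ 2 = 0 → z₁ = 0 ∧ z₂ = 0) :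
    H664.Eight.Eight (POmega F (quadFormMinus 4 F a b)) := by
  have h17 : Fact (Nat.Prime 17) := ⟨by norm_num⟩
  have hs : IsSimpleGroup (POmega F (quadFormMinus 4 F a b)) := S0297.result (F := F) 5 (by norm_num) a b hab
  have hcard := card_om102 hF a b hab
  have hG := SmallSimple.OrdersA.not_comm hcard (by norm_num)
  obtain ⟨h340, h154⟩ := om102_rk hF a b hab
  have hst := om102_st hF a b hab
  obtain ⟨e, he, hed⟩ := om102_hc hF a b hab
  have hepos : 0 < e := by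
    obtain ⟨χ, rfl⟩ := he
    exact Nat.pos_of_ne_zero (Blocks.Knorr.charDegree_ne_zero χ.2)
  have hebig : 52360 < e := lt_of_lt_of_le (by norm_num) (Nat.le_of_dvd hepos hed)
  -- the block
  obtain ⟨R, hR, hC⟩ := selfcent_om102 hF a b hab
  obtain ⟨P, M, hM, D, hP, hCP⟩ := exists_blk hG (p := 17) (e := 8) (t := 2) (by norm_num) hcard (by norm_num)
    (by norm_num) (by norm_num) (by norm_num) (by norm_num) R hR hC
  have c1 : (154 : ℤ) ∈ D.degs :=
    pos_mem hM D hP hCP (by norm_num) h154 (by decide) (by norm_num) (by norm_num) (by norm_num) (by norm_num)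
  have c2 : (-1048576 : ℤ) ∈ D.degs :=
    neg_mem hM D hP hCP (by norm_num) hst (by decide) (by norm_num) (by norm_num) (by norm_num) (by norm_num)
  have hE := D.f_dvd (by norm_num)
  rw [← D.natAbs_dexc, ← D.dexc_eq (by norm_num), hcard] at hE
  have hE17 := D.dexc_modEq hP (by norm_num)
  rw [← D.dexc_eq (by norm_num)] at hE17
  have hEmem := dexc_mem D (by norm_num)
  have hsq := D.sum_sq_le
  have hff : ((D.f : ℕ) : ℤ) ^ 2 = (1 + D.degs.sum) ^ 2 := by
    rw [← D.natAbs_dexc, ← D.dexc_eq (by norm_num)]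
    exact Int.natAbs_sq _
  rw [hff, hcard] at hsq
  have hlen : D.degs.length = 7 := by
    have := D.length_degs
    omega
  have hspec : ∀ z ∈ D.degs, z % 17 = 1 ∧ z.natAbs ∣ 25015379558400 ∧ 3 ≤ z.natAbs ∧ z.natAbs ∈ charDegrees
      (POmega F (quadFormMinus 4 F a b)) := by
    intro z hz
    obtain ⟨h1, h2, -⟩ := D.degs_spec hP z hz
    rw [hcard] at h2
    exact ⟨h1, h2, degs_three_le (by rw [hcard]; norm_num) (by rw [hcard]; norm_num) D z hz, degs_mem D hz⟩
  have hEmod : (1 + D.degs.sum) % 17 = 8 := hE17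
  clear hE17 hff hG
  generalize D.degs = l at *
  clear D
  have h1mem := H664.Eight.one_mem (S := POmega F (quadFormMinus 4 F a b))
  by_cases hall : ∀ z ∈ l, z = 154 ∨ z = -1048576
  · exfalso
    obtain ⟨k, m, n, h1, h2, -, -, -, -, h6⟩ := list_comb (u := 154) (v := -1048576) (x := 0) (by norm_num) (by norm_num)
      (by norm_num) l (fun z hz => (hall z hz).imp_right Or.inl)
    have hn : n = 0 := h6 fun h0 => by
      have := (hspec 0 h0).2.2.1
      norm_num at this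
    subst hn
    rw [h2] at hE
    have hk : k = 7 - m := by omega
    have hm : m ≤ 7 := by omega
    subst hk
    clear h2 hsq hEmod hEmem
    interval_cases m <;> norm_num at hE
  · push Not at hall
    obtain ⟨x, hx, hx1, hx2⟩ := hall
    obtain ⟨hx3, hx4, hx5, hx6⟩ := hspec x hx
    by_cases h3 : ∀ z ∈ l, z = 154 ∨ z = -1048576 ∨ z = x
    · obtain ⟨k, m, n, g1, g2, g3, g4, g5, g6, -⟩ := list_comb (u := 154) (v := -1048576) (x := x) (by norm_num) hx1 hx2 l h3
      have hk := g4 c1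
      have hm := g5 c2
      have hn := g6 hx
      rw [g2] at hE hEmod hEmem
      rw [g2, g3] at hsq
      have hxx : x = -56133 := om102_uniq (by omega) hk hm hn hx3 hx4 hx5 hE (by exact_mod_cast hsq) hx1 hx2
      subst hxx
      obtain ⟨d, hd, hd1, hd2⟩ := H996.Eight.Interval.exists_between (H996.Eight.Interval.Small.of_mem h154 (by norm_num))
        (X := 340) (by norm_num) hst (by norm_num)
      rw [hlen] at g1
      obtain ⟨E0, hE0⟩ : ∃ E0 : ℕ, E0 = (1 + ((k : ℤ) * 154 + (m : ℤ) * (-1048576) + (n : ℤ) * (-56133))).natAbs :=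
        ⟨_, rfl⟩
      rw [← hE0] at hEmem
      refine H664.Eight.eight_of_list [1, 154, 340, 1048576, 56133, E0, e, d] ?_ le_rfl ?_
      rotate_left
      · simp only [List.mem_cons, List.not_mem_nil, or_false, forall_eq_or_imp, forall_eq]
        exact ⟨h1mem, h154, h340, hst, hx6, hEmem, he, hd⟩
      · refine nodup_a (by rw [hE0]; exact natAbs_mod_eight hEmod) ?_ (Dvd.dvd.trans (by norm_num) hed) hebig hd1
          (hd2.trans (by norm_num))
        have hk5 : (k : ℤ) ≤ 7 := by omega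
        have hm1 : (1 : ℤ) ≤ m := by exact_mod_cast hm
        have hn0 : (0 : ℤ) ≤ n := by positivity
        have hneg : (1 + ((k : ℤ) * 154 + (m : ℤ) * (-1048576) + (n : ℤ) * (-56133))) < -52360 := by linarith
        rw [hE0]
        clear * - hneg
        omega
    · push Not at h3
      obtain ⟨y, hy, hy1, hy2, hy3⟩ := h3
      obtain ⟨hy4, hy5, hy6, hy7⟩ := hspec y hy
      obtain ⟨E0, hE0⟩ : ∃ E0 : ℕ, E0 = (1 + l.sum).natAbs := ⟨_, rfl⟩
      rw [← hE0] at hEmem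
      refine H664.Eight.eight_of_list [1, 154, 340, 1048576, x.natAbs, y.natAbs, E0, e] ?_ le_rfl ?_
      rotate_left
      · simp only [List.mem_cons, List.not_mem_nil, or_false, forall_eq_or_imp, forall_eq]
        exact ⟨h1mem, h154, h340, hst, hx6, hy7, hEmem, he⟩
      · exact nodup_b (natAbs_mod_one hx3) (natAbs_mod_one hy4) (by rw [hE0]; exact natAbs_mod_eight hEmod)
          (Dvd.dvd.trans (by norm_num) hed) hebig (fun h => by rw [h] at hx5; norm_num at hx5)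
          (natAbs_ne hx3 (w := 154) (by norm_num) hx1) (natAbs_ne hx3 (w := -1048576) (by norm_num) hx2)
          (fun h => by rw [h] at hy6; norm_num at hy6)
          (natAbs_ne hy4 (w := 154) (by norm_num) hy1) (natAbs_ne hy4 (w := -1048576) (by norm_num) hy2)
          (natAbs_ne hx3 hy4 (Ne.symm hy3))

end Cfsg.Agent.H532.Eight
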