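import Cfsg.Agent.H532.Eight.Tools

/-!
# At least eight character degrees: `PΩ⁻_8(2)` (helper532, for S4899)
-/

set_option autoImplicit false

namespace Cfsg.Agent.H532.Eight

open Module Cfsg Subgroup
open Cfsg.Agent.Characters.Core
open Cfsg.Agent.SmallSimple.LocalData Cfsg.Agent.SmallSimple.DegreeData Cfsg.Agent.H424.BlockTools
  Cfsg.Agent.H424.BlockTools2

/-- `PΩ⁻_8(2)` has at least eight character degrees. -/
theorem eight_om82 {F : Type} [Field F] [Fintype F] (hF : Fintype.card F = 2) (a b : F)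
    (hab : ∀ z₁ z₂ : F, z₁ ^ 2 + a * z₁ * z₂ + b * z₂ ^ 2 = 0 → z₁ = 0 ∧ z₂ = 0) :
    H664.Eight.Eight (POmega F (quadFormMinus 3 F a b)) := by
  have hp2 : Fact (Nat.Prime 2) := ⟨Nat.prime_two⟩
  have h17 : Fact (Nat.Prime 17) := ⟨by norm_num⟩
  have hchar : CharP F 2 := charP_of_card_eq_prime hF
  have hq : Nat.card F = 2 := by rw [Nat.card_eq_fintype_card, hF]
  have hs : IsSimpleGroup (POmega F (quadFormMinus 3 F a b)) := S0297.result (F := F) 4 le_rfl a b hab
  have hcard := card_om82 hF a b hab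
  have hG := SmallSimple.OrdersA.not_comm hcard (by norm_num)
  -- the Steinberg character
  have h4096 : 4096 ∈ charDegrees (POmega F (quadFormMinus 3 F a b)) := by
    have hlie : IsLieTypeChar 2 (POmega F (quadFormMinus 3 F a b)) :=
      Or.inr (Or.inr (Or.inr (Or.inr (Or.inr (Or.inl ⟨F, inferInstance, inferInstance, hchar, 4, a, b, le_rfl, hab,
        ⟨MulEquiv.refl _⟩⟩)))))
    have := st_deg Nat.prime_two hlie hcard (k := 12) (m := 48195) (by norm_num) (by norm_num)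
    norm_num at this
    exact this
  -- the rank 3 characters
  obtain ⟨s, t, hs1, ht1, hs2, ht2⟩ := H477.HC.rk3_minus F a b hab (l := 3) le_rfl
  rw [hq] at hs2 ht2
  norm_num at hs2 ht2
  have h84 : 84 ∈ charDegrees (POmega F (quadFormMinus 3 F a b)) := by
    have : s = 84 := by omega
    rw [← this]
    exact Ch_mem hs1
  have h34 : 34 ∈ charDegrees (POmega F (quadFormMinus 3 F a b)) := by
    have : t = 34 := by omega
    rw [← this]
    exact Ch_mem ht1
  -- the Harish-Chandra induced character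
  obtain ⟨e, he, he1, -⟩ := top_deg (p := 2) a b hab (l := 3) le_rfl
  rw [hq] at he1
  have e17 : 17 ^ 1 ∣ e := he1 17 1 (by norm_num) (by norm_num) (by norm_num) (by decide)
  have e5 : 5 ^ 1 ∣ e := he1 5 1 (by norm_num) (by norm_num) (by norm_num) (by decide)
  have e9 : 3 ^ 2 ∣ e := he1 3 2 (by norm_num) (by norm_num) (by norm_num) (by decide)
  have he0 : e ∣ 197406720 := by
    obtain ⟨χ, rfl⟩ := he
    rw [← hcard]
    exact Blocks.Knorr.charDegree_dvd χ.2
  have hepos : 0 < e := Nat.pos_of_dvd_of_pos he0 (by norm_num)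
  obtain ⟨j, hj, hj0⟩ : ∃ j, e = 765 * j ∧ 0 < j := by
    have h1 : 17 ^ 1 * 5 ^ 1 * 3 ^ 2 ∣ e :=
      Nat.Coprime.mul_dvd_of_dvd_of_dvd (by norm_num) (Nat.Coprime.mul_dvd_of_dvd_of_dvd (by norm_num) e17 e5) e9
    norm_num at h1
    obtain ⟨j, hj⟩ := h1
    exact ⟨j, hj, by omega⟩
  clear e17 e5 e9 he0 he1
  -- the block
  obtain ⟨R, hR, hC⟩ := selfcent_om82 hF a b hab
  obtain ⟨P, M, hM, D, hP, hCP⟩ := exists_blk hG (p := 17) (e := 4) (t := 4) (by norm_num) hcard (by norm_num)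
    (by norm_num) (by norm_num) (by norm_num) (by norm_num) R hR hC
  have c1 := neg_mem hM D hP hCP (by norm_num) h84 (by decide) (by norm_num) (by norm_num) (by norm_num) (by norm_num)
  have c2 := neg_mem hM D hP hCP (by norm_num) h4096 (by decide) (by norm_num) (by norm_num) (by norm_num) (by norm_num)
  obtain ⟨x, hx, hx1, hx2⟩ := exists_third D c1 c2 (by norm_num)
  have hE := D.f_dvd (by norm_num)
  rw [← D.natAbs_dexc, ← D.dexc_eq (by norm_num), hx1, hcard] at hE
  have hsq := D.sum_sq_le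
  rw [hx2, hcard] at hsq
  obtain ⟨hx3, hx4, -⟩ := D.degs_spec hP x hx
  have hxsq : x ^ 2 ≤ 197406720 := by
    have : (0 : ℤ) ≤ ((4 : ℕ) : ℤ) * (D.f : ℤ) ^ 2 := by positivity
    push_cast at hsq this
    nlinarith
  rw [hcard] at hx4
  have hx5 : x ∈ ([1344] : List ℤ) := by
    refine SmallSimple.DegreeSearch.mem_of_all (p := 17) (r := 1) (by norm_num)
      (L := [(2, 12), (3, 4), (5, 1), (7, 1), (17, 1)]) (by norm_num)
      (F := fun z => decide ((1 + (-((84 : ℕ) : ℤ) + -((4096 : ℕ) : ℤ) + z)).natAbs ∣ 197406720 ∧ z ^ 2 ≤ 197406720))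
      (C := [1344]) (by decide +kernel) hx3 (by norm_num; exact hx4) ?_
    rw [decide_eq_true_eq]
    exact ⟨hE, hxsq⟩
  have hx6 : x = 1344 := by simpa using hx5
  have h1344 : 1344 ∈ charDegrees (POmega F (quadFormMinus 3 F a b)) := by
    have h0 : x.natAbs = 1344 := by rw [hx6]; norm_num
    have := degs_mem D hx
    rwa [h0] at this
  have h2835 : 2835 ∈ charDegrees (POmega F (quadFormMinus 3 F a b)) := by
    have h0 : (1 + D.degs.sum).natAbs = 2835 := by rw [hx1, hx6]; norm_num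
    have := dexc_mem D (by norm_num)
    rwa [h0] at this
  -- an odd degree
  obtain ⟨k, hk, hk1, hk2, hk3⟩ := exists_odd (by rw [hcard]; norm_num) (by rw [hcard]; norm_num) h34 (a := 561) (b := 595)
    (by norm_num) (by norm_num) (by decide) (by decide)
  refine H664.Eight.eight_of_list [1, 34, 84, 4096, 1344, 2835, e, k] ?_ le_rfl ?_
  · simp only [List.nodup_cons, List.mem_cons, List.not_mem_nil, or_false, not_or, List.nodup_nil, and_true]
    rw [Nat.odd_iff] at hk1
    clear hE hsq hx4 hxsq hx5 c1 c2 hx1 hx2 hx3 hs2 ht2 hcard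
    refine ⟨⟨?_, ?_, ?_, ?_, ?_, ?_, ?_⟩, ⟨?_, ?_, ?_, ?_, ?_, ?_⟩, ⟨?_, ?_, ?_, ?_, ?_⟩, ⟨?_, ?_, ?_, ?_⟩,
      ⟨?_, ?_, ?_⟩, ⟨?_, ?_⟩, ?_, not_false⟩ <;> omega
  · simp only [List.mem_cons, List.not_mem_nil, or_false, forall_eq_or_imp, forall_eq]
    exact ⟨H664.Eight.one_mem, h34, h84, h4096, h1344, h2835, he, hk⟩

end Cfsg.Agent.H532.Eight
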