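import Cfsg.Agent.H532.Eight.Tools

/-!
# At least eight character degrees: `PΩ⁻_8(3)` (helper532, for S4899)
-/

set_option autoImplicit false

namespace Cfsg.Agent.H532.Eight

open Module Cfsg Subgroup
open Cfsg.Agent.Characters.Core
open Cfsg.Agent.SmallSimple.LocalData Cfsg.Agent.SmallSimple.DegreeData Cfsg.Agent.H424.BlockTools
  Cfsg.Agent.H424.BlockTools2

/-- `13` does not divide the degree coming from the maximal totally singular subspaces of `Ω⁻_8(3)` -/
theorem not_dvd_dg {F : Type} [Field F] [Finite F] (hq : Nat.card F = 3) (a b : F)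
    (hab : ∀ z₁ z₂ : F, z₁ ^ 2 + a * z₁ * z₂ + b * z₂ ^ 2 = 0 → z₁ = 0 ∧ z₂ = 0)
    (h : Nat.card ((H477.HC.CForm.minusF F (3 + 0) a b hab).Om 3) * Nat.card (GL (Fin 3) F) ∣
        Nat.card (H477.HC.CForm.minusF F (3 + 0) a b hab).iso) :
    ¬ 13 ∣ H477.HC.dg (H477.HC.CForm.minusF F (3 + 0) a b hab) 3 := by
  obtain ⟨s, hs⟩ := H477.HC.card_GL_eq F 3 (by norm_num)
  rw [H477.HC.card_minusF, hs, hq] at h
  unfold H477.HC.dg
  rw [hq]
  norm_num [Finset.prod_Ico_succ_top, Finset.prod_range_succ] at h ⊢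
  intro h13
  have h1 : 13 ∣ Nat.card ((H477.HC.CForm.minusF F 3 a b hab).Om 3) := by
    rcases (Nat.Prime.dvd_mul (by norm_num)).1 h13 with h2 | h2
    · exact h2
    · norm_num at h2
  have h2 : 13 * 13 ∣ Nat.card ((H477.HC.CForm.minusF F 3 a b hab).Om 3) * (3 ^ s * 416) :=
    Nat.mul_dvd_mul h1 (Dvd.dvd.mul_left (by norm_num) _)
  have h3 := h2.trans h
  norm_num at h3

/-- `PΩ⁻_8(3)` has at least eight character degrees. -/
theorem eight_om83 {F : Type} [Field F] [Fintype F] (hF : Fintype.card F = 3) (a b : F)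
    (hab : ∀ z₁ z₂ : F, z₁ ^ 2 + a * z₁ * z₂ + b * z₂ ^ 2 = 0 → z₁ = 0 ∧ z₂ = 0) :
    H664.Eight.Eight (POmega F (quadFormMinus 3 F a b)) := by
  have hp3 : Fact (Nat.Prime 3) := ⟨Nat.prime_three⟩
  have h41 : Fact (Nat.Prime 41) := ⟨by norm_num⟩
  have hchar : CharP F 3 := charP_of_card_eq_prime hF
  have hq : Nat.card F = 3 := by rw [Nat.card_eq_fintype_card, hF]
  have hs : IsSimpleGroup (POmega F (quadFormMinus 3 F a b)) := S0297.result (F := F) 4 le_rfl a b hab
  have hcard := card_om83 hF a b hab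
  have hG := SmallSimple.OrdersA.not_comm hcard (by norm_num)
  -- the Steinberg character
  have hst : 531441 ∈ charDegrees (POmega F (quadFormMinus 3 F a b)) := by
    have hlie : IsLieTypeChar 3 (POmega F (quadFormMinus 3 F a b)) :=
      Or.inr (Or.inr (Or.inr (Or.inr (Or.inr (Or.inl ⟨F, inferInstance, inferInstance, hchar, 4, a, b, le_rfl, hab,
        ⟨MulEquiv.refl _⟩⟩)))))
    have := st_deg Nat.prime_three hlie hcard (k := 12) (m := 19102720) (by norm_num) (by norm_num)
    norm_num at this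
    exact this
  -- the rank 3 characters
  obtain ⟨s, t, hs1, ht1, hs2, ht2⟩ := H477.HC.rk3_minus F a b hab (l := 3) le_rfl
  rw [hq] at hs2 ht2
  norm_num at hs2 ht2
  have h819 : 819 ∈ charDegrees (POmega F (quadFormMinus 3 F a b)) := by
    have : s = 819 := by omega
    rw [← this]
    exact Ch_mem hs1
  have h246 : 246 ∈ charDegrees (POmega F (quadFormMinus 3 F a b)) := by
    have : t = 246 := by omega
    rw [← this]
    exact Ch_mem ht1
  -- the Harish-Chandra induced characters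
  obtain ⟨e, he, he1, he2, he3⟩ := top_deg (p := 3) a b hab (l := 3) le_rfl
  rw [hq] at he1
  have e41 : 41 ^ 1 ∣ e := he1 41 1 (by norm_num) (by norm_num) (by norm_num) (by decide)
  have e7 : 7 ^ 1 ∣ e := he1 7 1 (by norm_num) (by norm_num) (by norm_num) (by decide)
  have e13 : ¬ 13 ∣ e := fun h => not_dvd_dg hq a b hab he3 (h.trans he2)
  obtain ⟨f, hf1, hf2, -⟩ := H477.HC.minus_ch F (p := 3) a b hab (l := 3) (k := 2) (n := 1) rfl le_rfl le_rfl
    (fun h => by omega) (fun _ _ => odd_one)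
  have hf := Ch_mem hf1
  obtain ⟨c, hc⟩ := H477.HC.td_key_three (by rw [hq]; norm_num)
    (H477.HC.minus_dvd F (p := 3) a b hab (k := 2) (n := 1) (by omega))
  rw [hq] at hc
  have f41 : 41 ∣ f := by
    have := hf2 41 1 (by norm_num) (by norm_num)
      (by rw [pow_one]; exact H477.HC.rm_p (p := 3) (by norm_num) (by norm_num) (by norm_num) hc)
    rwa [pow_one] at this
  have f7 : 7 ∣ f := by
    have := hf2 7 1 (by norm_num) (by norm_num)
      (by rw [pow_one]; exact H477.HC.rm_p (p := 3) (by norm_num) (by norm_num) (by norm_num) hc)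
    rwa [pow_one] at this
  have f13 : 13 ∣ f := by
    have := hf2 13 1 (by norm_num) (by norm_num)
      (by rw [pow_one]; exact H477.HC.rm_p (p := 3) (by norm_num) (by norm_num) (by norm_num) hc)
    rwa [pow_one] at this
  have hef : e ≠ f := fun h => e13 (by rw [h]; exact f13)
  have he287 : 287 ∣ e := by
    have := Nat.Coprime.mul_dvd_of_dvd_of_dvd (by norm_num) e41 e7
    norm_num at this
    exact this
  have hf287 : 287 ∣ f := Nat.Coprime.mul_dvd_of_dvd_of_dvd (m := 41) (n := 7) (by norm_num) f41 f7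
  clear he1 he2 he3 e41 e7 e13 hf1 hf2 hc f41 f7 f13
  -- the block
  obtain ⟨R, hR, hC⟩ := selfcent_om83 hF a b hab
  obtain ⟨P, M, hM, D, hP, hCP⟩ := exists_blk hG (p := 41) (e := 4) (t := 10) (by norm_num) hcard (by norm_num)
    (by norm_num) (by norm_num) (by norm_num) (by norm_num) R hR hC
  have c1 := neg_mem hM D hP hCP (by norm_num) h819 (by decide) (by norm_num) (by norm_num) (by norm_num) (by norm_num)
  have c2 := neg_mem hM D hP hCP (by norm_num) hst (by decide) (by norm_num) (by norm_num) (by norm_num) (by norm_num)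
  obtain ⟨x, hx, hx1, hx2⟩ := exists_third D c1 c2 (by norm_num)
  have hE := D.f_dvd (by norm_num)
  rw [← D.natAbs_dexc, ← D.dexc_eq (by norm_num), hx1, hcard] at hE
  have hsq := D.sum_sq_le
  rw [hx2, hcard] at hsq
  obtain ⟨hx3, hx4, -⟩ := D.degs_spec hP x hx
  have hxsq : x ^ 2 ≤ 10151968619520 := by
    have : (0 : ℤ) ≤ ((10 : ℕ) : ℤ) * (D.f : ℤ) ^ 2 := by positivity
    push_cast at hsq this
    nlinarith
  rw [hcard] at hx4
  have hx5 : x ∈ ([66339] : List ℤ) := by
    refine SmallSimple.DegreeSearch.mem_of_all (p := 41) (r := 1) (by norm_num)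
      (L := [(2, 10), (3, 12), (5, 1), (7, 1), (13, 1), (41, 1)]) (by norm_num)
      (F := fun z => decide ((1 + (-((819 : ℕ) : ℤ) + -((531441 : ℕ) : ℤ) + z)).natAbs ∣ 10151968619520 ∧
        z ^ 2 ≤ 10151968619520))
      (C := [66339]) (by decide +kernel) hx3 (by norm_num; exact hx4) ?_
    rw [decide_eq_true_eq]
    exact ⟨hE, hxsq⟩
  have hx6 : x = 66339 := by simpa using hx5
  have h6 : 66339 ∈ charDegrees (POmega F (quadFormMinus 3 F a b)) := by
    have h0 : x.natAbs = 66339 := by rw [hx6]; norm_num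
    have := degs_mem D hx
    rwa [h0] at this
  have h7 : 465920 ∈ charDegrees (POmega F (quadFormMinus 3 F a b)) := by
    have h0 : (1 + D.degs.sum).natAbs = 465920 := by rw [hx1, hx6]; norm_num
    have := dexc_mem D (by norm_num)
    rwa [h0] at this
  refine H664.Eight.eight_of_list [1, 246, 819, 531441, 66339, 465920, e, f] ?_ le_rfl ?_
  · simp only [List.nodup_cons, List.mem_cons, List.not_mem_nil, or_false, not_or, List.nodup_nil, and_true]
    clear hE hsq hx4 hxsq hx5 c1 c2 hx1 hx2 hx3 hs2 ht2 hcard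
    refine ⟨⟨?_, ?_, ?_, ?_, ?_, ?_, ?_⟩, ⟨?_, ?_, ?_, ?_, ?_, ?_⟩, ⟨?_, ?_, ?_, ?_, ?_⟩, ⟨?_, ?_, ?_, ?_⟩,
      ⟨?_, ?_, ?_⟩, ⟨?_, ?_⟩, hef, not_false⟩ <;> omega
  · simp only [List.mem_cons, List.not_mem_nil, or_false, forall_eq_or_imp, forall_eq]
    exact ⟨H664.Eight.one_mem, h246, h819, hst, h6, h7, he, hf⟩

end Cfsg.Agent.H532.Eight
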