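import Cfsg.Agent.H532.Eight.Local
import Cfsg.Agent.H424.BlockTools2
import Cfsg.Agent.H477.HC.NPO
import Cfsg.Agent.H477.HC.Rk3Chars
import Cfsg.Agent.H167.HasStLie
import Cfsg.Agent.PermChar.SymAlt
import Cfsg.Agent.H664.Eight.Base
import Cfsg.Agent.H996.Eight.Interval
import Cfsg.Agent.S0297

/-!
# Tools for the number of character degrees of some orthogonal groups (helper532, for S4899)

* `exists_blk` : the principal `p`-block of a simple group with a self-centralizing subgroup of order `p`;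
* `exists_odd` : a nontrivial odd degree from the symmetric and the alternating square of a character;
* `eq_mem_of` : the fourth degree from three degrees of the block (`e = 4`);
* `st_deg` : the Steinberg degree;
* `card_stab_dvd` : `|F.Om k| * |GL_k(q)|` divides `|F.iso|`; `hc_deg` : the degree divides `dg F k`.
-/

set_option autoImplicit false

namespace Cfsg.Agent.H532.Eight

open Module Cfsg Subgroup
open Cfsg.Agent.Characters.Core Cfsg.Agent.Blocks.Basic
open Cfsg.Agent.SmallSimple.LocalData Cfsg.Agent.SmallSimple.DegreeData Cfsg.Agent.H424.BlockTools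
  Cfsg.Agent.H424.BlockTools2

universe u v w

/-! ### blocks -/

section blocks

variable {G : Type u} [Group G] [Finite G]

theorem exists_blk [IsSimpleGroup G] (hG : ¬ IsMulCommutative G) {n p e t : ℕ} [Fact p.Prime] (hp2 : p ≠ 2)
    (hn : Nat.card G = n) (h1 : p ∣ n) (h2 : ¬ p ^ 2 ∣ n) (hmod : n / p % p = e) (he : e < p) (ht : e * t = p - 1)
    (R : Subgroup G) (hR : Nat.card R = p) (hC : centralizer (R : Set G) = R) :
    ∃ (P : Sylow p G) (M : Ideal AlgInt) (_ : IsPModular p M) (_ : BlockData p M P e t), Nat.card P = p ∧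
      Nat.card (centralizer (P : Set G)) = p := by
  subst hn
  have hp : p.Prime := Fact.out
  obtain ⟨e', k, h, -⟩ := exists_data hG hp hp2 h1 h2
  obtain ⟨P, hP⟩ := exists_sylow_eq hp h2 R hR
  have h3 := h.card_centralizer P
  have hp0 := hp.pos
  have hk : k = 1 := by
    have h4 : centralizer (P : Set G) = R := by
      have : ((P : Subgroup G) : Set G) = (R : Set G) := congrArg _ hP
      rw [← hC, ← this]
      rfl
    rw [h4, hR] at h3
    exact (Nat.eq_of_mul_eq_mul_left hp0 (by rw [← h3, mul_one])).symm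
  subst hk
  obtain ⟨K, hK, -⟩ := h.loc P
  have hp1 := hp.two_le
  have he' := Nat.le_of_dvd (by omega) hK.dvd_pred
  have h5 := h.card_sylow_mul
  have h6 : Nat.card (Sylow p G) % p = 1 := by
    have := card_sylow_modEq_one p G
    unfold Nat.ModEq at this
    rwa [Nat.mod_eq_of_lt (a := 1) (by omega)] at this
  have h7 : Nat.card G / p = Nat.card (Sylow p G) * e' := by
    rw [← h5, mul_one, show Nat.card (Sylow p G) * (p * e') = p * (Nat.card (Sylow p G) * e') by ring,
      Nat.mul_div_cancel_left _ hp0]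
  rw [h7, Nat.mul_mod, h6, one_mul, Nat.mod_mod, Nat.mod_eq_of_lt (by omega)] at hmod
  subst hmod
  obtain ⟨M, hM, ⟨D⟩⟩ := exists_block h hp2 P (t := t) ht
  refine ⟨P, M, hM, D, h.card_eq P, ?_⟩
  rw [h3, mul_one]

/-- the fourth degree of a block with `e = 4` -/
theorem exists_third {p t : ℕ} {M : Ideal AlgInt} {P : Sylow p G} (D : BlockData p M P 4 t) {u v : ℤ} (hu : u ∈ D.degs)
    (hv : v ∈ D.degs) (huv : u ≠ v) : ∃ x ∈ D.degs, D.degs.sum = u + v + x ∧
      (D.degs.map (· ^ 2)).sum = u ^ 2 + v ^ 2 + x ^ 2 := by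
  have hlen : D.degs.length = 3 := by
    have := D.length_degs
    omega
  obtain ⟨a, b, c, habc⟩ := List.length_eq_three.1 hlen
  rw [habc] at hu hv ⊢
  simp only [List.mem_cons, List.not_mem_nil, or_false] at hu hv
  simp only [List.mem_cons, List.not_mem_nil, or_false, exists_eq_or_imp, exists_eq_left, List.sum_cons, List.sum_nil,
    add_zero, List.map_cons, List.map_nil]
  rcases hu with rfl | rfl | rfl <;> rcases hv with rfl | rfl | rfl
  · exact absurd rfl huv
  · exact Or.inr (Or.inr ⟨by ring, by ring⟩)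
  · exact Or.inr (Or.inl ⟨by ring, by ring⟩)
  · exact Or.inr (Or.inr ⟨by ring, by ring⟩)
  · exact absurd rfl huv
  · exact Or.inl ⟨by ring, by ring⟩
  · exact Or.inr (Or.inl ⟨by ring, by ring⟩)
  · exact Or.inl ⟨by ring, by ring⟩
  · exact absurd rfl huv

/-- the signed degrees: a degree `≡ -1` -/
theorem neg_mem {p e t : ℕ} [Fact p.Prime] {M : Ideal AlgInt} (hM : IsPModular p M)
    {P : Sylow p G} (D : BlockData p M P e t) (hP : Nat.card P = p)
    (hC : Nat.card (centralizer (P : Set G)) = p) (ht : e * t = p - 1) {d : ℕ}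
    (hd : d ∈ charDegrees G) (hpd : (d : ℤ) ≡ -1 [ZMOD p]) (hp3 : 3 ≤ p) (he1 : 1 < e) (he2 : e + 1 < p) (hd1 : d ≠ 1) :
    -(d : ℤ) ∈ D.degs := by
  have hp0 : (0 : ℤ) < p := by omega
  have hnd : ∀ z : ℤ, (p : ℤ) ∣ z → |z| < p → z = 0 := fun z h1 h2 => Int.eq_zero_of_abs_lt_dvd h1 h2
  rcases degree_cases hM D hP hC ht hd (fun h => by
    have h1 : (d : ℤ) ≡ 0 [ZMOD p] := (Int.modEq_zero_iff_dvd).2 (by exact_mod_cast h)
    have h2 := (h1.symm.trans hpd).dvd
    have h3 := hnd _ h2 (by norm_num; omega)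
    omega) with h | ⟨z, hz, h⟩ | h
  · exact absurd h hd1
  · have h1 := (D.degs_spec hP z hz).1
    rcases Int.natAbs_eq z with h2 | h2
    · exfalso
      rw [h] at h2
      rw [h2] at h1
      have h3 := (h1.symm.trans hpd).dvd
      have h4 := hnd _ h3 (by norm_num; omega)
      omega
    · rw [h] at h2
      rwa [← h2]
  · exfalso
    have h1 := D.dexc_modEq hP ht
    rw [← D.dexc_eq ht] at h1
    rcases Int.natAbs_eq (1 + D.degs.sum) with h2 | h2
    · rw [← h] at h2
      rw [h2] at h1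
      have h3 := (hpd.symm.trans h1).dvd
      have h4 := hnd _ h3 (by rw [abs_lt]; constructor <;> omega)
      omega
    · rw [← h] at h2
      rw [h2] at h1
      have h3 := ((hpd.neg.symm.trans h1)).dvd
      have h4 := hnd _ h3 (by rw [abs_lt]; constructor <;> omega)
      omega

theorem pos_mem {p e t : ℕ} [Fact p.Prime] {M : Ideal AlgInt} (hM : IsPModular p M)
    {P : Sylow p G} (D : BlockData p M P e t) (hP : Nat.card P = p)
    (hC : Nat.card (centralizer (P : Set G)) = p) (ht : e * t = p - 1) {d : ℕ}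
    (hd : d ∈ charDegrees G) (hpd : (d : ℤ) ≡ 1 [ZMOD p]) (hp3 : 3 ≤ p) (he1 : 1 < e) (he2 : e + 1 < p) (hd1 : d ≠ 1) :
    (d : ℤ) ∈ D.degs := by
  have hp0 : (0 : ℤ) < p := by omega
  have hnd : ∀ z : ℤ, (p : ℤ) ∣ z → |z| < p → z = 0 := fun z h1 h2 => Int.eq_zero_of_abs_lt_dvd h1 h2
  rcases degree_cases hM D hP hC ht hd (fun h => by
    have h1 : (d : ℤ) ≡ 0 [ZMOD p] := (Int.modEq_zero_iff_dvd).2 (by exact_mod_cast h)
    have h2 := (h1.symm.trans hpd).dvd
    have h3 := hnd _ h2 (by norm_num; omega)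
    omega) with h | ⟨z, hz, h⟩ | h
  · exact absurd h hd1
  · have h1 := (D.degs_spec hP z hz).1
    rcases Int.natAbs_eq z with h2 | h2
    · rw [h] at h2
      rwa [← h2]
    · exfalso
      rw [h] at h2
      rw [h2] at h1
      have h3 := (h1.symm.trans hpd.neg).dvd
      have h4 := hnd _ h3 (by norm_num; omega)
      omega
  · exfalso
    have h1 := D.dexc_modEq hP ht
    rw [← D.dexc_eq ht] at h1
    rcases Int.natAbs_eq (1 + D.degs.sum) with h2 | h2
    · rw [← h] at h2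
      rw [h2] at h1
      have h3 := (hpd.symm.trans h1).dvd
      have h4 := hnd _ h3 (by rw [abs_lt]; constructor <;> omega)
      omega
    · rw [← h] at h2
      rw [h2] at h1
      have h3 := ((hpd.neg.symm.trans h1)).dvd
      have h4 := hnd _ h3 (by rw [abs_lt]; constructor <;> omega)
      omega

/-- an odd nontrivial degree -/
theorem exists_odd [IsSimpleGroup G] (hG : ¬ (Nat.card G).Prime) (h2 : 2 ∣ Nat.card G) {d a b : ℕ}
    (hd : d ∈ charDegrees G) (ha : d ^ 2 = 2 * a + d) (hb : 2 * b = d ^ 2 + d) (hao : Odd a) (hbo : Odd b) :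
    ∃ k ∈ charDegrees G, Odd k ∧ 3 ≤ k ∧ k ≤ b := by
  classical
  have := Fintype.ofFinite G
  have : Finite (IrrCharacter G) := finite_irr
  have := Fintype.ofFinite (IrrCharacter G)
  obtain ⟨χ, hχ⟩ := hd
  have hχ1 : (χ : G → ℂ) 1 = d := by rw [irr_one_eq_charDegree χ.2, hχ]
  have hc := isIrr_isCharacter χ.2
  obtain ⟨m₁, hm₁⟩ := exists_nat_comb (PermChar.SymAlt.isCharacter_symSq hc)
  obtain ⟨m₂, hm₂⟩ := exists_nat_comb (PermChar.SymAlt.isCharacter_altSq hc)
  let one : IrrCharacter G := ⟨1, isIrr_one⟩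
  have h01 : m₁ one = 0 ∨ m₂ one = 0 := by
    have e1 := classInner_sum_nsmul_irr m₁ one
    have e2 := classInner_sum_nsmul_irr m₂ one
    rw [← hm₁] at e1
    rw [← hm₂] at e2
    have e3 := classInner_irr χ.2 (isIrr_conj χ.2)
    have e4 : classInner (χ : G → ℂ) (fun g => (starRingEnd ℂ) ((χ : G → ℂ) g)) =
        ((m₁ one + m₂ one : ℕ) : ℂ) := by
      push_cast
      rw [← e1, ← e2, ← classInner_add_left, Characters.Core.classInner_def, Characters.Core.classInner_def]
      congr 1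
      refine Finset.sum_congr rfl fun g _ => ?_
      simp only [Pi.add_apply, Complex.conj_conj]
      change _ = _ * (starRingEnd ℂ) ((1 : G → ℂ) g)
      rw [Pi.one_apply, map_one]
      ring
    rw [e4] at e3
    have e5 : m₁ one + m₂ one ≤ 1 := by
      split_ifs at e3
      · have : m₁ one + m₂ one = 1 := by exact_mod_cast e3
        omega
      · have : m₁ one + m₂ one = 0 := by exact_mod_cast e3
        omega
    omega
  have key : ∀ (m : IrrCharacter G → ℕ) (ψ : G → ℂ) (n : ℕ), ψ = ∑ φ : IrrCharacter G, m φ • (φ : G → ℂ) → ψ 1 = n →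
      Odd n → m one = 0 → ∃ k ∈ charDegrees G, Odd k ∧ 3 ≤ k ∧ k ≤ n := by
    intro m ψ n hm hψ hn h0
    have h4 : (n : ℂ) = ((∑ φ : IrrCharacter G, m φ * charDegree (φ : G → ℂ) : ℕ) : ℂ) := by
      rw [← hψ, hm, Finset.sum_apply]
      push_cast
      refine Finset.sum_congr rfl fun φ _ => ?_
      rw [Pi.smul_apply, irr_one_eq_charDegree φ.2, nsmul_eq_mul]
    have h5 : n = ∑ φ : IrrCharacter G, m φ * charDegree (φ : G → ℂ) := by exact_mod_cast h4
    obtain ⟨φ, hφ⟩ : ∃ φ : IrrCharacter G, Odd (m φ * charDegree (φ : G → ℂ)) := by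
      by_contra hcon
      push Not at hcon
      have h6 : Even n := by
        rw [h5]
        refine Finset.even_sum _ fun φ _ => ?_
        have := hcon φ
        rwa [Nat.not_odd_iff_even] at this
      exact (Nat.not_even_iff_odd.2 hn) h6
    obtain ⟨h7, h8⟩ := Nat.odd_mul.1 hφ
    have hφ1 : φ ≠ one := fun h => by
      rw [h, h0] at h7
      exact absurd h7 (by decide)
    refine ⟨_, ⟨φ, rfl⟩, h8, three_le hG h2 φ.2 (fun h => hφ1 (Subtype.ext h)), ?_⟩
    have h9 : 1 ≤ m φ := h7.pos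
    rw [h5]
    calc charDegree (φ : G → ℂ) = 1 * charDegree (φ : G → ℂ) := (one_mul _).symm
      _ ≤ m φ * charDegree (φ : G → ℂ) := Nat.mul_le_mul_right _ h9
      _ ≤ _ := Finset.single_le_sum (f := fun φ : IrrCharacter G => m φ * charDegree (φ : G → ℂ))
          (fun _ _ => Nat.zero_le _) (Finset.mem_univ φ)
  have hab : a ≤ b := by nlinarith
  rcases h01 with h0 | h0
  · exact key m₁ _ b hm₁ (by
      have : (2 * b : ℂ) = d ^ 2 + d := by exact_mod_cast hb
      simp only [mul_one, hχ1]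
      rw [← this]
      ring) hbo h0
  · obtain ⟨k, h1, h3, h4, h5⟩ := key m₂ _ a hm₂ (by
      have : (d : ℂ) ^ 2 = 2 * a + d := by exact_mod_cast ha
      simp only [mul_one, hχ1]
      rw [this]
      ring) hao h0
    exact ⟨k, h1, h3, h4, h5.trans hab⟩

end blocks

/-! ### degrees -/

theorem Ch_mem {S : Type*} [Group S] {d : ℕ} (h : H477.HC.Ch S d) : d ∈ charDegrees S := by
  obtain ⟨χ, hχ⟩ := h.exists_irr
  exact ⟨χ, hχ⟩

theorem st_deg {p : ℕ} (hp : p.Prime) {T : Type u} [Group T] [Finite T] [IsSimpleGroup T]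
    (h : IsLieTypeChar p T) {n m k : ℕ} (hn : Nat.card T = n) (hk : n = p ^ k * m) (hm : ¬ p ∣ m) :
    p ^ k ∈ charDegrees T := by
  obtain ⟨χ, hχ, h1, -⟩ := H167.StChar.hasSt_of_lie hp h
  refine ⟨⟨χ, hχ⟩, Blocks.Knorr.charDegree_of_natCast ?_⟩
  change χ 1 = _
  have : Fact p.Prime := ⟨hp⟩
  have hm0 : m ≠ 0 := by
    rintro rfl
    exact hm (dvd_zero p)
  have h2 : n.factorization p = k := by
    rw [Nat.factorization_def _ hp, hk, padicValNat.mul (pow_ne_zero _ hp.ne_zero) hm0,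
      padicValNat.prime_pow, padicValNat.eq_zero_of_not_dvd hm, add_zero]
  rw [h1, hn, h2]

/-! ### Harish-Chandra characters -/

section hc

open Cfsg.Agent.H477.HC Cfsg.Agent.H53.HC

theorem card_Om_mul_dvd {K : Type u} [Field K] {V : Type v} [AddCommGroup V] [Module K V] (F : CForm K V)
    [FiniteDimensional K V] [Finite V] {k : ℕ} {W₀ : Submodule K V} (hW₀ : W₀ ∈ F.Om k) :
    Nat.card (F.Om k) * Nat.card (GL (Fin k) K) ∣ Nat.card F.iso := by
  classical
  have : Finite (V ≃ₗ[K] V) := Finite.of_injective (fun e : V ≃ₗ[K] V => (e : V → V)) DFunLike.coe_injective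
  rw [F.card_iso_eq hW₀]
  refine Nat.mul_dvd_mul_left _ ?_
  have e3 : Nat.card (W₀ ≃ₗ[K] W₀) = Nat.card (GL (Fin k) K) :=
    Nat.card_congr (glE (finBasisOfFinrankEq K W₀ hW₀.2)).toEquiv
  rw [← e3]
  refine Subgroup.card_dvd_of_surjective (resHom F.iso.subtype W₀) fun a => ?_
  obtain ⟨g, hg⟩ := F.exists_levi' hW₀.1 a
  have hgW : W₀.map (F.iso.subtype g : V →ₗ[K] V) = W₀ := map_eq_of_le F.iso.subtype fun w hw => by
    have := hg ⟨w, hw⟩
    change (g : V ≃ₗ[K] V) w ∈ W₀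
    rw [this]
    exact (a ⟨w, hw⟩).2
  refine ⟨⟨g, hgW⟩, ?_⟩
  ext w
  exact hg w

/-- the degrees of `PΩ`, with an upper bound -/
theorem om_ch' {ι : Type} [Fintype ι] [DecidableEq ι] {K : Type u} [Field K] [Finite K] (F : CForm K (ι → K))
    (hB : ∀ u v, F.B u v = F.Q (u + v) - F.Q u - F.Q v) {k : ℕ} {W₀ : Submodule K (ι → K)} (hW₀ : W₀ ∈ F.Om k)
    {Z : Kˣ → Prop} {c : GL (Fin k) K → ℂ} (hc : Cus K k F.σ Z c)
    (hcen : ∀ z : Omega K F.Q, z ∈ Subgroup.center (Omega K F.Q) → ∃ a : Kˣ, Z a ∧ ∀ v, (omMat z).mulVec v = (a : K) • v)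
    (hidx : (Omega K F.Q).index ∣ 8) :
    ∃ e, Ch (POmega K F.Q) e ∧ (∀ t a, t.Prime → t ≠ 2 → t ^ a ∣ dg F k → t ^ a ∣ e) ∧ e ∣ dg F k := by
  obtain ⟨χ, hχ, hχ1, hχz⟩ := om_char F hB hW₀ hc
  have hz : ∀ z : Omega K F.Q, z ∈ Subgroup.center (Omega K F.Q) → χ z = χ 1 := by
    intro z hz
    obtain ⟨a, ha, h⟩ := hcen z hz
    exact hχz z a ha h
  obtain ⟨e, h1, h2, h3, h4⟩ := ch_down (Omega K F.Q) hχ hχ1 hz
  refine ⟨e, h1, fun t a ht ht2 hd => ?_, h2⟩
  refine pow_dvd_of_down ht h2 h3 h4 (b := 0) hd fun h => ?_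
  rw [zero_add, pow_one] at h
  have h5 : t ∣ 2 ^ 3 := h.trans hidx
  exact ht2 ((Nat.prime_dvd_prime_iff_eq ht Nat.prime_two).1 (ht.dvd_of_dvd_pow h5))

/-- the degree of `PΩ⁻` from the maximal totally singular subspaces -/
theorem top_deg {K : Type u} [Field K] [Finite K] {p : ℕ} [Fact p.Prime] [CharP K p] (a b : K)
    (hab : ∀ z₁ z₂ : K, z₁ ^ 2 + a * z₁ * z₂ + b * z₂ ^ 2 = 0 → z₁ = 0 ∧ z₂ = 0) {l : ℕ} (hl : 3 ≤ l) :
    ∃ e, e ∈ charDegrees (POmega K (quadFormMinus l K a b)) ∧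
      (∀ t c, t.Prime → t ≠ 2 → t ≠ p → t ^ c ∣ M1 (Nat.card K) l → t ^ c ∣ e) ∧
      e ∣ dg (CForm.minusF K (l + 0) a b hab) l ∧
      Nat.card ((CForm.minusF K (l + 0) a b hab).Om l) * Nat.card (GL (Fin l) K) ∣
        Nat.card (CForm.minusF K (l + 0) a b hab).iso := by
  obtain ⟨⟨W₀, hW₀⟩, -⟩ := CForm.minusF_frame (K := K) (p := p) hab l 0
  obtain ⟨c, hc⟩ := exists_cus_sq K rfl l (by omega) (fun _ => hl) (fun _ => hl) (fun _ => by omega)
  obtain ⟨e, h1, h2, h3⟩ := om_ch' (CForm.minusF K (l + 0) a b hab) (minus_hB K (l + 0) a b hab) hW₀ hc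
      (fun z hz => scal_of (cen_minus K (by omega) a b hab z hz)) (minus_idx K a b hab hl)
  obtain ⟨s, hs⟩ := minus_dvd_top K (p := p) a b hab (l := l) (by omega)
  refine ⟨e, Ch_mem h1, fun t c ht ht2 htp h => h2 t c ht ht2 ?_, h3, card_Om_mul_dvd _ hW₀⟩
  exact prime_pow_dvd ht Fact.out htp (h.trans hs)

end hc

end Cfsg.Agent.H532.Eight
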